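import Groth.Agent.Lib.Depth.Basic
import Mathlib.RingTheory.Ideal.AssociatedPrime.Finiteness
import Mathlib.RingTheory.Flat.EquationalCriterion

/-!
# Regular elements modulo `x`, and depth at least two
-/

universe u v

open IsLocalRing RingTheory.Sequence
open scoped Pointwise

namespace Groth.Agent.Lib.PushDepth

variable {R : Type u} [CommRing R] {M : Type v} [AddCommGroup M] [Module R M]

/-- A flat module inherits "`y` is regular modulo `x`" from the ring. -/
theorem regMod_of_flat [Module.Flat R M] {x y : R} (h : ∀ r, x ∣ y * r → x ∣ r) {m m' : M}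
    (e : y • m = x • m') : ∃ z, m = x • z := by
  have h0 : ∑ i, ![y, -x] i • ![m, m'] i = 0 := by
    simp [Fin.sum_univ_two, e]
  obtain ⟨k, a, z, hz, ha⟩ := Module.Flat.isTrivialRelation_of_sum_smul_eq_zero h0
  have hd : ∀ j, x ∣ a 0 j := fun j => h _ ⟨a 1 j, by
    have := ha j
    simp [Fin.sum_univ_two] at this
    linear_combination this⟩
  choose c hc using hd
  refine ⟨∑ j, c j • z j, ?_⟩
  rw [show m = _ from hz 0, Finset.smul_sum]
  exact Finset.sum_congr rfl fun j _ => by rw [hc j, mul_smul]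

theorem isSMulRegular_quot {x y : R} (h : ∀ m m' : M, y • m = x • m' → ∃ z, m = x • z) :
    IsSMulRegular (QuotSMulTop x M) y := by
  refine isSMulRegular_iff_right_eq_zero_of_smul.mpr fun q hq => ?_
  obtain ⟨m, rfl⟩ := Submodule.Quotient.mk_surjective _ q
  rw [← Submodule.Quotient.mk_smul, Submodule.Quotient.mk_eq_zero] at hq
  obtain ⟨m', -, hm'⟩ := (Submodule.mem_smul_pointwise_iff_exists _ _ _).mp hq
  obtain ⟨z, rfl⟩ := h m m' hm'.symm
  exact (Submodule.Quotient.mk_eq_zero _).mpr (Submodule.smul_mem_pointwise_smul z x ⊤ trivial)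

variable [IsLocalRing R]

theorem one_le_depth {x : R} (hx : x ∈ maximalIdeal R) (h : IsSMulRegular M x) :
    (1 : ℕ∞) ≤ LocCoh.depth R M := by
  have := Depth.Basic.length_le_idealDepth (I := maximalIdeal R) (rs := [x])
    ((isWeaklyRegular_singleton_iff M x).mpr h) (by simpa using hx)
  simpa [LocCoh.depth] using this

theorem two_le_depth {x y : R} (hx : x ∈ maximalIdeal R) (hy : y ∈ maximalIdeal R)
    (h₁ : IsSMulRegular M x) (h₂ : ∀ m m' : M, y • m = x • m' → ∃ z, m = x • z) :
    (2 : ℕ∞) ≤ LocCoh.depth R M := by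
  have := Depth.Basic.length_le_idealDepth (I := maximalIdeal R) (rs := [x, y])
    ((isWeaklyRegular_cons_iff M x [y]).mpr
      ⟨h₁, (isWeaklyRegular_singleton_iff _ y).mpr (isSMulRegular_quot h₂)⟩)
    (by simp only [List.mem_cons, List.not_mem_nil, or_false, forall_eq_or_imp, forall_eq]; exact ⟨hx, hy⟩)
  simpa [LocCoh.depth] using this

theorem exists_regular_of_no_socle [IsNoetherianRing R] [Module.Finite R M]
    (h : ∀ v : M, (∀ a ∈ maximalIdeal R, a • v = 0) → v = 0) :
    ∃ x ∈ maximalIdeal R, IsSMulRegular M x := by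
  by_contra! hne
  have hsub : (maximalIdeal R : Set R) ⊆ ⋃ p ∈ associatedPrimes R M, p := by
    intro x hx
    rw [biUnion_associatedPrimes_eq_compl_regular R M]
    exact hne x hx
  obtain ⟨p, hp, hle⟩ := (Ideal.subset_union_prime_finite (associatedPrimes.finite R M) ⊥ ⊥
    (fun P hP _ _ => hP.isPrime)).mp hsub
  obtain ⟨hpp, v, hv⟩ := isAssociatedPrime_iff.mp hp
  have hv0 : v = 0 := h v fun a ha => by
    have : a ∈ (⊥ : Submodule R M).colon {v} := hv ▸ hle ha
    simpa using Submodule.mem_colon_singleton.mp this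
  subst hv0
  exact hpp.ne_top (hv.trans ((Ideal.eq_top_iff_one _).mpr
    (Submodule.mem_colon_singleton.mpr (by simp))))

theorem two_le_depth_of_no_socle [IsNoetherianRing R] [Module.Finite R M]
    (h₁ : ∀ v : M, (∀ a ∈ maximalIdeal R, a • v = 0) → v = 0)
    (h₂ : ∀ x ∈ maximalIdeal R, IsSMulRegular M x → ∀ v : M,
      (∀ a ∈ maximalIdeal R, ∃ c, a • v = x • c) → ∃ z, v = x • z) :
    (2 : ℕ∞) ≤ LocCoh.depth R M := by
  obtain ⟨x, hx, hreg⟩ := exists_regular_of_no_socle h₁
  obtain ⟨y, hy, hy'⟩ := exists_regular_of_no_socle (M := QuotSMulTop x M) (R := R) (by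
    intro q hq
    obtain ⟨v, rfl⟩ := Submodule.Quotient.mk_surjective _ q
    obtain ⟨z, rfl⟩ := h₂ x hx hreg v fun a ha => by
      have := hq a ha
      rw [← Submodule.Quotient.mk_smul, Submodule.Quotient.mk_eq_zero] at this
      obtain ⟨c, -, hc⟩ := (Submodule.mem_smul_pointwise_iff_exists _ _ _).mp this
      exact ⟨c, hc.symm⟩
    exact (Submodule.Quotient.mk_eq_zero _).mpr (Submodule.smul_mem_pointwise_smul z x ⊤ trivial))
  refine two_le_depth hx hy hreg fun m m' e => ?_
  have h0 : y • (Submodule.Quotient.mk m : QuotSMulTop x M) = y • 0 := by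
    rw [smul_zero, ← Submodule.Quotient.mk_smul, Submodule.Quotient.mk_eq_zero, e]
    exact Submodule.smul_mem_pointwise_smul m' x ⊤ trivial
  obtain ⟨z, -, hz⟩ :=
    (Submodule.mem_smul_pointwise_iff_exists _ _ _).mp ((Submodule.Quotient.mk_eq_zero _).mp (hy' h0))
  exact ⟨z, hz.symm⟩

/-- `R` of depth at least one, resp. two, has a regular element, resp. regular pair. -/
theorem exists_pair (h : (2 : ℕ∞) ≤ LocCoh.depth R R) :
    ∃ x ∈ maximalIdeal R, ∃ y ∈ maximalIdeal R, IsSMulRegular R x ∧ ∀ r, x ∣ y * r → x ∣ r := by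
  have hne : maximalIdeal R • (⊤ : Submodule R R) ≠ ⊤ := by
    rw [smul_eq_mul, Ideal.mul_top]; exact Ideal.IsPrime.ne_top'
  obtain ⟨rs, hl, hmem, hr⟩ := (Depth.Basic.le_idealDepth_iff_of_ne_top hne 2).mp
    (by exact_mod_cast h)
  obtain ⟨x, y, rfl⟩ := List.length_eq_two.mp hl
  obtain ⟨h1, h2⟩ := (isWeaklyRegular_cons_iff R x [y]).mp hr
  rw [isWeaklyRegular_singleton_iff] at h2
  refine ⟨x, hmem x (by simp), y, hmem y (by simp), h1, fun r hr => ?_⟩
  have hdvd : ∀ t : R, t ∈ x • (⊤ : Submodule R R) ↔ x ∣ t := fun t => by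
    rw [← Submodule.ideal_span_singleton_smul, smul_eq_mul, Ideal.mul_top,
      Ideal.mem_span_singleton]
  rw [← hdvd, ← Submodule.Quotient.mk_eq_zero]
  refine h2 ?_
  change y • _ = y • (0 : QuotSMulTop x R)
  rw [smul_zero, ← Submodule.Quotient.mk_smul, Submodule.Quotient.mk_eq_zero, hdvd, smul_eq_mul]
  exact hr

theorem exists_one (h : (1 : ℕ∞) ≤ LocCoh.depth R R) :
    ∃ x ∈ maximalIdeal R, IsSMulRegular R x := by
  rcases Depth.Basic.one_le_idealDepth_iff.mp h with h | h
  · rw [smul_eq_mul, Ideal.mul_top] at h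
    exact absurd h Ideal.IsPrime.ne_top'
  · exact h

end Groth.Agent.Lib.PushDepth
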