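import Groth.Agent.Lib.StalkLoc.Basic
import Groth.Agent.Lib.QCoh.Pushforward
import Groth.Agent.Lib.PushDepth.Alg
import Groth.Agent.Lib.AssPt.Basic
import Groth.Prelude.Def_FlatMod2

/-!
# Sections of a direct image near a point of the base
-/

universe u

open CategoryTheory AlgebraicGeometry TopologicalSpace Opposite IsLocalRing

set_option linter.style.haveILetI false

namespace Groth.Agent.Lib.PushDepth

variable {X S : Scheme.{u}} (f : X ⟶ S) (F : X.Modules) {V : S.Opens} {s : S}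

/-- Restriction of sections. -/
noncomputable abbrev rs {U O : X.Opens} (h : U ≤ O) (m : Γ(F, O)) : Γ(F, U) :=
  F.presheaf.map (homOfLE h).op m

/-- Functions on `V`, read over `O`. -/
noncomputable abbrev ρ {O : X.Opens} (h : O ≤ f ⁻¹ᵁ V) : Γ(S, V) →+* Γ(X, O) :=
  (f.appLE V O h).hom

theorem rs_smul {U O : X.Opens} (h : U ≤ O) (hO : O ≤ f ⁻¹ᵁ V) (t : Γ(S, V)) (m : Γ(F, O)) :
    rs F h (ρ f hO t • m) = ρ f (h.trans hO) t • rs F h m := by
  rw [rs, F.map_smul]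
  congr 1
  show (f.appLE V O hO ≫ X.presheaf.map (homOfLE h).op) t = _
  rw [Scheme.Hom.appLE_map]

theorem rs_rs {U U' O : X.Opens} (h : U ≤ U') (h' : U' ≤ O) (m : Γ(F, O)) :
    rs F h (rs F h' m) = rs F (h.trans h') m := by
  simp only [rs, ← CategoryTheory.comp_apply, ← F.presheaf.map_comp]
  rfl

theorem rs_zero {U O : X.Opens} (h : U ≤ O) : rs F h 0 = 0 :=
  map_zero (F.presheaf.map (homOfLE h).op).hom

theorem rs_sub {U O : X.Opens} (h : U ≤ O) (m m' : Γ(F, O)) :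
    rs F h (m - m') = rs F h m - rs F h m' := map_sub (F.presheaf.map (homOfLE h).op).hom m m'

theorem rs_sum {ι : Type*} {U O : X.Opens} (h : U ≤ O) (T : Finset ι) (m : ι → Γ(F, O)) :
    rs F h (∑ i ∈ T, m i) = ∑ i ∈ T, rs F h (m i) :=
  map_sum (F.presheaf.map (homOfLE h).op).hom m T

theorem smul_rs {U O : X.Opens} (h : U ≤ O) (c : Γ(X, O)) (m : Γ(F, O)) :
    rs F h (c • m) = X.presheaf.map (homOfLE h).op c • rs F h m := F.map_smul _ c m

/-- Gluing along a finite family. -/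
theorem exists_glue {ι : Type u} (W : ι → X.Opens) {O : X.Opens} (hW : ∀ i, W i ≤ O)
    (hcov : O ≤ ⨆ i, W i) (z : ∀ i, Γ(F, W i))
    (hz : ∀ i j, rs F (inf_le_left : W i ⊓ W j ≤ W i) (z i) =
      rs F (inf_le_right : W i ⊓ W j ≤ W j) (z j)) :
    ∃ y : Γ(F, O), ∀ i, rs F (hW i) y = z i := by
  obtain ⟨y, hy, -⟩ := TopCat.Sheaf.existsUnique_gluing' ⟨F.presheaf, F.isSheaf⟩ W O
    (fun i => homOfLE (hW i)) hcov z hz
  exact ⟨y, hy⟩

theorem sec_ext {ι : Type u} (W : ι → X.Opens) {O : X.Opens} (hW : ∀ i, W i ≤ O)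
    (hcov : O ≤ ⨆ i, W i) (a b : Γ(F, O)) (h : ∀ i, rs F (hW i) a = rs F (hW i) b) : a = b :=
  TopCat.Sheaf.eq_of_locally_eq' ⟨F.presheaf, F.isSheaf⟩ W O (fun i => homOfLE (hW i)) hcov a b h

/-- A finite affine cover of a compact open. -/
theorem exists_finite_affine_cover {O : X.Opens} (hO : IsCompact (O : Set X)) :
    ∃ (ι : Type u) (_ : Finite ι) (W : ι → X.Opens), (∀ i, IsAffineOpen (W i)) ∧
      (∀ i, W i ≤ O) ∧ O ≤ ⨆ i, W i := by
  obtain ⟨T, hT, hcov⟩ := isCompact_and_isOpen_iff_finite_and_eq_biUnion_affineOpens.mp ⟨hO, O.2⟩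
  refine ⟨T, hT.to_subtype, fun i => i.1.1, fun i => i.1.2, fun i x hx => ?_, fun x hx => ?_⟩
  · rw [← SetLike.mem_coe, hcov]
    exact Set.mem_iUnion₂.mpr ⟨i.1, i.2, hx⟩
  · rw [← SetLike.mem_coe, hcov] at hx
    obtain ⟨i, hi, hx⟩ := Set.mem_iUnion₂.mp hx
    exact Opens.mem_iSup.mpr ⟨⟨i, hi⟩, hx⟩

theorem exists_common {ι : Type*} [Finite ι] (hs : s ∈ V) (P : ι → Γ(S, V) → Prop)
    (hmul : ∀ i t t', P i t → P i (t' * t))
    (h : ∀ i, ∃ t, s ∈ S.basicOpen t ∧ P i t) : ∃ t, s ∈ S.basicOpen t ∧ ∀ i, P i t := by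
  classical
  haveI := Fintype.ofFinite ι
  choose t ht hP using h
  refine ⟨∏ i, t i, ?_, fun i => ?_⟩
  · rw [S.mem_basicOpen _ s hs, map_prod, IsUnit.prod_iff]
    exact fun i _ => (S.mem_basicOpen _ s hs).mp (ht i)
  · rw [← Finset.prod_erase_mul _ _ (Finset.mem_univ i)]
    exact hmul i _ _ (hP i)

/-- An ideal on an affine open meets the functions invertible at `s`, if it does so at the stalks
over the generisations of `s`. -/
theorem exists_mem_ideal (hV : IsAffineOpen V) (hs : s ∈ V) {W : X.Opens} (hW : IsAffineOpen W)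
    (e : W ≤ f ⁻¹ᵁ V) (J : Ideal Γ(X, W))
    (h : ∀ w ∈ W, f w ⤳ s → ∃ b ∈ J, w ∈ X.basicOpen b) :
    ∃ t : Γ(S, V), s ∈ S.basicOpen t ∧ ρ f e t ∈ J := by
  by_contra! hne
  let T : Submonoid Γ(X, W) :=
    { carrier := {b | ∃ t, s ∈ S.basicOpen t ∧ ρ f e t = b}
      one_mem' := ⟨1, (S.mem_basicOpen _ s hs).mpr (by rw [map_one]; exact isUnit_one), map_one _⟩
      mul_mem' := by
        rintro _ _ ⟨t, ht, rfl⟩ ⟨t', ht', rfl⟩
        exact ⟨t * t', by rw [S.basicOpen_mul]; exact ⟨ht, ht'⟩, map_mul _ _ _⟩ }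
  obtain ⟨P, hP, hJP, hPT⟩ := Ideal.exists_le_prime_disjoint J T
    (Set.disjoint_left.mpr fun b hb ⟨t, ht, e'⟩ => hne t ht (e' ▸ hb))
  obtain ⟨w, hw, rfl⟩ := AssPt.Basic.exists_point_of_prime hW P
  have hmem : ∀ b, w ∈ X.basicOpen b ↔ b ∉ (hW.primeIdealOf ⟨w, hw⟩).asIdeal := fun b => by
    rw [X.mem_basicOpen b w hw]
    letI := X.presheaf.algebra_section_stalk ⟨w, hw⟩
    haveI := hW.isLocalization_stalk ⟨w, hw⟩
    exact IsLocalization.AtPrime.isUnit_to_map_iff (X.presheaf.stalk w) _ b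
  have hspec : f w ⤳ s := by
    refine specializes_iff_forall_open.mpr fun U hU hsU => ?_
    obtain ⟨t, htU, hst⟩ := hV.exists_basicOpen_le (V := ⟨U, hU⟩) ⟨s, hsU⟩ hs
    refine htU ?_
    have h1 : ρ f e t ∉ (hW.primeIdealOf ⟨w, hw⟩).asIdeal :=
      Set.disjoint_right.mp hPT ⟨t, hst, rfl⟩
    have h2 := (hmem _).mpr h1
    rw [show X.basicOpen (ρ f e t) = X.basicOpen (f.appLE V W e t) from rfl,
      Scheme.basicOpen_appLE] at h2
    exact h2.2
  obtain ⟨b, hb, hwb⟩ := h w hw hspec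
  exact (hmem b).mp hwb (hJP hb)

/-- Sections on a compact open killed locally by functions invertible at `s`. -/
theorem exists_kill (hs : s ∈ V) {O : X.Opens} (hO : IsCompact (O : Set X)) (e : O ≤ f ⁻¹ᵁ V)
    (m : Γ(F, O))
    (h : ∀ W : X.Opens, IsAffineOpen W → ∀ hW : W ≤ O,
      ∃ t, s ∈ S.basicOpen t ∧ ρ f (hW.trans e) t • rs F hW m = 0) :
    ∃ t, s ∈ S.basicOpen t ∧ ρ f e t • m = 0 := by
  obtain ⟨ι, _, W, hWa, hW, hcov⟩ := exists_finite_affine_cover hO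
  obtain ⟨t, ht, hP⟩ := exists_common hs
    (fun i t => ρ f ((hW i).trans e) t • rs F (hW i) m = 0)
    (fun i t t' h => by rw [map_mul, mul_smul, h, smul_zero]) fun i => h _ (hWa i) (hW i)
  exact ⟨t, ht, sec_ext F W hW hcov _ 0 fun i => by rw [rs_smul, hP, rs, map_zero]⟩

/-- Transport of "`y` is regular modulo `x`" to the generisations. -/
theorem regMod_generization (hV : IsAffineOpen V) (hs : s ∈ V) {q : S} (hq : q ⤳ s) (x y : Γ(S, V))
    (h : ∀ r, S.presheaf.germ V s hs x ∣ S.presheaf.germ V s hs y * r →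
      S.presheaf.germ V s hs x ∣ r)
    (a : S.presheaf.stalk q) (ha : S.presheaf.germ V q (hq.mem_open V.2 hs) x ∣
      S.presheaf.germ V q (hq.mem_open V.2 hs) y * a) :
    S.presheaf.germ V q (hq.mem_open V.2 hs) x ∣ a := by
  have hqV := hq.mem_open V.2 hs
  letI := S.presheaf.algebra_section_stalk ⟨q, hqV⟩
  haveI := hV.isLocalization_stalk ⟨q, hqV⟩
  set g := S.presheaf.germ V q hqV
  obtain ⟨b, hb⟩ := ha
  obtain ⟨⟨c, k⟩, hc⟩ := IsLocalization.surj (hV.primeIdealOf ⟨q, hqV⟩).asIdeal.primeCompl a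
  obtain ⟨⟨d, l⟩, hd⟩ := IsLocalization.surj (hV.primeIdealOf ⟨q, hqV⟩).asIdeal.primeCompl b
  change a * g k = g c at hc
  change b * g l = g d at hd
  have heq : g (y * c * l) = g (x * d * k) := by
    simp only [map_mul, ← hc, ← hd]
    linear_combination (g k * g l) * hb
  obtain ⟨ε, hε⟩ := (IsLocalization.eq_iff_exists
    (hV.primeIdealOf ⟨q, hqV⟩).asIdeal.primeCompl (S.presheaf.stalk q)).mp heq
  have h1 : S.presheaf.germ V s hs x ∣ S.presheaf.germ V s hs (ε * c * l) := by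
    refine h _ ⟨S.presheaf.germ V s hs (ε * d * k), ?_⟩
    rw [← map_mul, ← map_mul]
    exact congrArg _ (by linear_combination hε)
  have h2 : g x ∣ g (ε * c * l) := by
    have := map_dvd (S.presheaf.stalkSpecializes hq).hom h1
    erw [TopCat.Presheaf.germ_stalkSpecializes_apply, TopCat.Presheaf.germ_stalkSpecializes_apply]
      at this
    exact this
  have hu : ∀ z : (hV.primeIdealOf ⟨q, hqV⟩).asIdeal.primeCompl, IsUnit (g z) :=
    fun z => IsLocalization.map_units (S.presheaf.stalk q) z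
  rw [map_mul, map_mul, ← hc] at h2
  rw [(hu l).dvd_mul_right, (hu ε).dvd_mul_left, (hu k).dvd_mul_right] at h2
  exact h2

/-- On an affine open, divisibility by `x` of a section can be tested over the generisations of
`s`. -/
theorem exists_div [F.IsQuasicoherent] (hV : IsAffineOpen V) (hs : s ∈ V) {W : X.Opens}
    (hW : IsAffineOpen W) (e : W ≤ f ⁻¹ᵁ V) (x : Γ(S, V)) (n : Γ(F, W))
    (h : ∀ (w : X) (hw : w ∈ W), f w ⤳ s → ∃ v,
      F.presheaf.germ W w hw n = X.presheaf.germ W w hw (ρ f e x) • v) :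
    ∃ t, s ∈ S.basicOpen t ∧ ∃ z, ρ f e t • n = ρ f e x • z := by
  let J : Ideal Γ(X, W) :=
    { carrier := {b | ∃ z, b • n = ρ f e x • z}
      add_mem' := by
        rintro a b ⟨z, hz⟩ ⟨z', hz'⟩
        exact ⟨z + z', by rw [add_smul, hz, hz', smul_add]⟩
      zero_mem' := ⟨0, by rw [zero_smul, smul_zero]⟩
      smul_mem' := by
        rintro c b ⟨z, hz⟩
        exact ⟨c • z, by rw [smul_eq_mul, mul_smul, hz, smul_comm]⟩ }
  obtain ⟨t, ht, htJ⟩ := exists_mem_ideal f hV hs hW e J fun w hw hsp => by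
    obtain ⟨v, hv⟩ := h w hw hsp
    obtain ⟨c, t', hc, ht'⟩ := StalkLoc.Basic.exists_smul_eq_germ (M := F) hW hw v
    have h0 : F.presheaf.germ W w hw (c • n - ρ f e x • t') = 0 := by
      rw [map_sub, Modules.StalkModule.germ_smul, Modules.StalkModule.germ_smul, ← ht', hv,
        smul_comm, sub_self]
    obtain ⟨d, hd, hd0⟩ := (StalkLoc.Basic.germ_eq_zero_iff hW hw _).mp h0
    refine ⟨d * c, ⟨d • t', ?_⟩, by rw [X.basicOpen_mul]; exact ⟨hd, hc⟩⟩
    rw [mul_smul, smul_comm (ρ f e x)]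
    rw [smul_sub, sub_eq_zero] at hd0
    exact hd0
  exact ⟨t, ht, htJ⟩

theorem germ_rho {O : X.Opens} (e : O ≤ f ⁻¹ᵁ V) {w : X} (hw : w ∈ O) (t : Γ(S, V)) :
    X.presheaf.germ O w hw (ρ f e t) = f.stalkMap w (S.presheaf.germ V (f w) (e hw) t) := by
  rw [Scheme.Hom.germ_stalkMap_apply]
  show X.presheaf.germ O w hw ((X.presheaf.map (homOfLE e).op) (f.app V t)) = _
  exact TopCat.Presheaf.germ_res_apply _ _ _ hw _

/-- Division by `x` near `s` of a section `n` with `y n = x z`, for a module flat over the base, if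
`y` is regular modulo `x` at `s`. -/
theorem exists_div_of_flat [F.IsQuasicoherent] (hfl : FlatMod.IsFlatOver f F) (hV : IsAffineOpen V)
    (hs : s ∈ V) (x y : Γ(S, V))
    (hxy : ∀ r, S.presheaf.germ V s hs x ∣ S.presheaf.germ V s hs y * r →
      S.presheaf.germ V s hs x ∣ r)
    {W : X.Opens} (hW : IsAffineOpen W) (e : W ≤ f ⁻¹ᵁ V) (n z : Γ(F, W))
    (he : ρ f e y • n = ρ f e x • z) :
    ∃ t, s ∈ S.basicOpen t ∧ ∃ z', ρ f e t • n = ρ f e x • z' := by
  refine exists_div f F hV hs hW e x n fun w hw hsp => ?_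
  letI := FlatMod.moduleStalkOver f F w
  haveI : Module.Flat (S.presheaf.stalk (f w)) (F.presheaf.stalk w) := hfl w
  have hsm : ∀ (t : Γ(S, V)) (m : F.presheaf.stalk w),
      X.presheaf.germ W w hw (ρ f e t) • m = S.presheaf.germ V (f w) (e hw) t • m := fun t m => by
    rw [germ_rho]; rfl
  have he' := congrArg (F.presheaf.germ W w hw) he
  rw [Modules.StalkModule.germ_smul, Modules.StalkModule.germ_smul, hsm, hsm] at he'
  obtain ⟨v, hv⟩ := regMod_of_flat (regMod_generization hV hs hsp x y hxy) he'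
  exact ⟨v, by rw [hsm]; exact hv⟩

end Groth.Agent.Lib.PushDepth
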