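import Groth.Agent.Lib.PushDepth.Sections

/-!
# Depth of the stalks of a direct image
-/

universe u

open CategoryTheory AlgebraicGeometry TopologicalSpace Opposite IsLocalRing

set_option linter.style.haveILetI false

namespace Groth.Agent.Lib.PushDepth

variable {X S : Scheme.{u}} (f : X ⟶ S) (F : X.Modules) {V : S.Opens} {s : S}

/-- The direct image. -/
noncomputable abbrev G : S.Modules := (Scheme.Modules.pushforward f).obj F

/-- A germ of the direct image from a section on `f⁻¹ V`. -/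
noncomputable abbrev gM (hs : s ∈ V) (n : Γ(F, f ⁻¹ᵁ V)) : (G f F).presheaf.stalk s :=
  (G f F).presheaf.germ V s hs n

theorem isUnit_germ (hs : s ∈ V) {t : Γ(S, V)} (ht : s ∈ S.basicOpen t) :
    IsUnit (S.presheaf.germ V s hs t) := (S.mem_basicOpen t s hs).mp ht

theorem gM_smul (hs : s ∈ V) (t : Γ(S, V)) (n : Γ(F, f ⁻¹ᵁ V)) :
    gM f F hs (ρ f (le_refl (f ⁻¹ᵁ V)) t • n) = S.presheaf.germ V s hs t • gM f F hs n := by
  have e : ρ f (le_refl (f ⁻¹ᵁ V)) t = f.app V t := by
    rw [Scheme.Hom.app_eq_appLE]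
  rw [e]
  exact Modules.StalkModule.germ_smul (M := G f F) hs t n

variable [QuasiCompact f] [QuasiSeparated f] [F.IsQuasicoherent]

theorem exists_rep (hV : IsAffineOpen V) (hs : s ∈ V) (v : (G f F).presheaf.stalk s) :
    ∃ t, s ∈ S.basicOpen t ∧ ∃ n, S.presheaf.germ V s hs t • v = gM f F hs n := by
  haveI : (G f F).IsQuasicoherent := QCoh.Pushforward.isQCoh_pushforward (f := f) (M := F)
  obtain ⟨t, n, ht, e⟩ := StalkLoc.Basic.exists_smul_eq_germ (M := G f F) hV hs v
  exact ⟨t, ht, n, e⟩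

theorem gM_eq_zero_iff (hV : IsAffineOpen V) (hs : s ∈ V) (n : Γ(F, f ⁻¹ᵁ V)) :
    gM f F hs n = 0 ↔ ∃ t, s ∈ S.basicOpen t ∧ ρ f (le_refl (f ⁻¹ᵁ V)) t • n = 0 := by
  haveI : (G f F).IsQuasicoherent := QCoh.Pushforward.isQCoh_pushforward (f := f) (M := F)
  constructor
  · intro h
    obtain ⟨t, ht, e⟩ := (StalkLoc.Basic.germ_eq_zero_iff (M := G f F) hV hs n).mp h
    refine ⟨t, ht, Eq.trans ?_ e⟩
    rw [show ρ f (le_refl (f ⁻¹ᵁ V)) t = f.app V t by rw [Scheme.Hom.app_eq_appLE]]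
    rfl
  · rintro ⟨t, ht, e⟩
    have h := congrArg (gM f F hs) e
    rw [gM_smul, show gM f F hs 0 = 0 from map_zero _] at h
    exact (isUnit_germ hs ht).smul_eq_zero.mp h

omit [QuasiCompact f] [QuasiSeparated f] [F.IsQuasicoherent] in
theorem gM_sub (hs : s ∈ V) (n n' : Γ(F, f ⁻¹ᵁ V)) :
    gM f F hs (n - n') = gM f F hs n - gM f F hs n' := map_sub _ n n'

/-- Every element of the local ring is a unit times the germ of a function on `V`. -/
theorem exists_assoc (hV : IsAffineOpen V) (hs : s ∈ V) (r : S.presheaf.stalk s) :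
    ∃ (a : Γ(S, V)) (ε : (S.presheaf.stalk s)ˣ), r = ε * S.presheaf.germ V s hs a := by
  letI := S.presheaf.algebra_section_stalk ⟨s, hs⟩
  haveI := hV.isLocalization_stalk ⟨s, hs⟩
  obtain ⟨⟨a, k⟩, h⟩ :=
    IsLocalization.surj (hV.primeIdealOf ⟨s, hs⟩).asIdeal.primeCompl r
  have hk : IsUnit (S.presheaf.germ V s hs k) :=
    IsLocalization.map_units (S.presheaf.stalk s) k
  refine ⟨a, hk.unit⁻¹, ?_⟩
  rw [← show r * _ = S.presheaf.germ V s hs a from h]
  show r = ↑(hk.unit⁻¹) * (r * S.presheaf.germ V s hs k)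
  rw [mul_left_comm, hk.val_inv_mul, mul_one]

/-- If `y` is regular modulo `x` at `s` and `F` is flat over the base, then `y` is regular modulo `x`
on the stalk of the direct image, provided `x` is regular on it or zero. -/
theorem regMod (hfl : FlatMod.IsFlatOver f F) (hV : IsAffineOpen V)
    (hs : s ∈ V) (x y : Γ(S, V))
    (hxy : ∀ r, S.presheaf.germ V s hs x ∣ S.presheaf.germ V s hs y * r →
      S.presheaf.germ V s hs x ∣ r)
    (hx : x = 0 ∨ ∀ r, S.presheaf.germ V s hs x * r = 0 → r = 0)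
    (m m' : (G f F).presheaf.stalk s)
    (h : S.presheaf.germ V s hs y • m = S.presheaf.germ V s hs x • m') :
    ∃ z, m = S.presheaf.germ V s hs x • z := by
  obtain ⟨t₁, ht₁, n, hn⟩ := exists_rep f F hV hs m
  obtain ⟨t₂, ht₂, n', hn'⟩ := exists_rep f F hV hs m'
  have h0 : gM f F hs (ρ f (le_refl (f ⁻¹ᵁ V)) (y * t₂) • n - ρ f (le_refl (f ⁻¹ᵁ V)) (x * t₁) • n') = 0 := by
    rw [gM_sub, gM_smul, gM_smul, ← hn, ← hn', sub_eq_zero, map_mul, map_mul, mul_smul, mul_smul,
      smul_smul (S.presheaf.germ V s hs t₁), mul_comm (S.presheaf.germ V s hs t₁), mul_smul,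
      smul_comm (S.presheaf.germ V s hs y), smul_comm (S.presheaf.germ V s hs y), h]
    simp only [smul_smul]
    congr 1
    ring
  obtain ⟨t₃, ht₃, e₀⟩ := (gM_eq_zero_iff f F hV hs _).mp h0
  obtain ⟨N, hNdef⟩ : ∃ N : Γ(F, f ⁻¹ᵁ V), N = ρ f (le_refl (f ⁻¹ᵁ V)) (t₃ * t₂) • n := ⟨_, rfl⟩
  obtain ⟨N', hNdef'⟩ : ∃ N : Γ(F, f ⁻¹ᵁ V), N = ρ f (le_refl (f ⁻¹ᵁ V)) (t₃ * t₁) • n' := ⟨_, rfl⟩
  have he : ρ f (le_refl (f ⁻¹ᵁ V)) y • N = ρ f (le_refl (f ⁻¹ᵁ V)) x • N' := by
    rw [← sub_eq_zero]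
    refine Eq.trans ?_ e₀
    simp only [hNdef, hNdef', smul_sub, smul_smul, map_mul]
    congr 2 <;> ring
  obtain ⟨ι, _, W, hWa, hW, hcov⟩ :=
    exists_finite_affine_cover (O := f ⁻¹ᵁ V) (f.isCompact_preimage hV.isCompact)
  obtain ⟨t, ht, hP⟩ := exists_common hs
    (fun i t => ∃ z, ρ f (hW i) t • rs F (hW i) N = ρ f (hW i) x • z)
    (fun i t t' ⟨z, hz⟩ => ⟨ρ f (hW i) t' • z, by rw [map_mul, mul_smul, hz, smul_comm]⟩)
    fun i => exists_div_of_flat f F hfl hV hs x y hxy (hWa i) (hW i) _ (rs F (hW i) N') (by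
      have := congrArg (rs F (hW i)) he
      rwa [rs_smul, rs_smul] at this)
  choose z hz using hP
  have hqs : IsQuasiSeparated ((f ⁻¹ᵁ V : X.Opens) : Set X) :=
    f.isQuasiSeparated_preimage hV.isQuasiSeparated
  obtain ⟨t', ht', hg⟩ := exists_common hs
    (fun (ij : ι × ι) t => x = 0 ∨ ρ f ((inf_le_left : W ij.1 ⊓ W ij.2 ≤ W ij.1).trans (hW ij.1)) t •
      (rs F (inf_le_left : W ij.1 ⊓ W ij.2 ≤ W ij.1) (z ij.1) -
        rs F (inf_le_right : W ij.1 ⊓ W ij.2 ≤ W ij.2) (z ij.2)) = 0)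
    (fun ij t t' h => h.imp_right fun h => by rw [map_mul, mul_smul, h, smul_zero])
    fun ij => by
      rcases hx with hx | hx
      · exact ⟨1, (S.mem_basicOpen _ s hs).mpr (by rw [map_one]; exact isUnit_one), Or.inl hx⟩
      obtain ⟨i, j⟩ := ij
      set d := rs F (inf_le_left : W i ⊓ W j ≤ W i) (z i) -
        rs F (inf_le_right : W i ⊓ W j ≤ W j) (z j)
      have hd : ρ f (inf_le_left.trans (hW i) : W i ⊓ W j ≤ f ⁻¹ᵁ V) x • d = 0 := by
        rw [smul_sub]
        conv_lhs => rw [← rs_smul f F inf_le_left (hW i), ← rs_smul f F inf_le_right (hW j),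
          ← hz i, ← hz j]
        rw [rs_smul, rs_smul, rs_rs, rs_rs, sub_self]
      have hc : IsCompact ((W i ⊓ W j : X.Opens) : Set X) :=
        hqs _ _ (hW i) (W i).2 (hWa i).isCompact (hW j) (W j).2 (hWa j).isCompact
      obtain ⟨u, hu, hu0⟩ := exists_kill f F hs hc (inf_le_left.trans (hW i)) d fun W' hW' hle => by
        obtain ⟨u, hu, z₀, e⟩ := exists_div_of_flat f F hfl hV hs 0 x
          (fun r hr => by
            rw [map_zero, zero_dvd_iff] at hr ⊢
            exact hx r hr)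
          hW' (hle.trans ((inf_le_left : W i ⊓ W j ≤ W i).trans (hW i))) (rs F hle d) 0 (by
            rw [← rs_smul f F hle ((inf_le_left : W i ⊓ W j ≤ W i).trans (hW i)), hd, rs_zero, smul_zero])
        exact ⟨u, hu, by rw [e, map_zero, zero_smul]⟩
      exact ⟨u, hu, Or.inr hu0⟩
  rcases eq_or_ne x 0 with rfl | hx0
  · refine ⟨0, ?_⟩
    rw [map_zero, zero_smul]
    have hN : ρ f (le_refl (f ⁻¹ᵁ V)) t • N = 0 := sec_ext F W hW hcov _ 0 fun i => by
      rw [rs_smul, hz i, map_zero, zero_smul, rs_zero]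
    have h1 := congrArg (gM f F hs) hN
    rw [hNdef] at h1
    rw [gM_smul, gM_smul, ← hn, smul_smul, smul_smul, show gM f F hs 0 = 0 from map_zero _] at h1
    refine IsUnit.smul_eq_zero ?_ |>.mp h1
    rw [map_mul]
    exact ((isUnit_germ hs ht).mul ((isUnit_germ hs ht₃).mul (isUnit_germ hs ht₂))).mul
      (isUnit_germ hs ht₁)
  · obtain ⟨y', hy'⟩ := exists_glue F W hW hcov (fun i => ρ f (hW i) t' • z i) fun i j => by
      have := (hg (i, j)).resolve_left hx0
      rw [smul_sub, sub_eq_zero] at this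
      rw [rs_smul, rs_smul]
      exact this
    have hN : ρ f (le_refl (f ⁻¹ᵁ V)) x • y' = ρ f (le_refl (f ⁻¹ᵁ V)) (t' * t) • N := sec_ext F W hW hcov _ _ fun i => by
      rw [rs_smul, rs_smul, hy', map_mul, mul_smul, hz i, smul_comm]
    have h1 := congrArg (gM f F hs) hN
    rw [hNdef] at h1
    rw [gM_smul, gM_smul, gM_smul, ← hn, smul_smul, smul_smul] at h1
    have hu : IsUnit (S.presheaf.germ V s hs (t' * t) * S.presheaf.germ V s hs (t₃ * t₂) *
        S.presheaf.germ V s hs t₁) := by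
      rw [map_mul, map_mul]
      exact (((isUnit_germ hs ht').mul (isUnit_germ hs ht)).mul
        ((isUnit_germ hs ht₃).mul (isUnit_germ hs ht₂))).mul (isUnit_germ hs ht₁)
    exact ⟨(↑hu.unit⁻¹ : S.presheaf.stalk s) • gM f F hs y', by
      rw [smul_comm, h1, smul_smul _ _ m, hu.val_inv_mul, one_smul]⟩

theorem depth_flat (hfl : FlatMod.IsFlatOver f F) (s : S) :
    min (2 : ℕ∞) (LocCoh.depth (S.presheaf.stalk s) (S.presheaf.stalk s)) ≤
      LocCoh.depth (S.presheaf.stalk s) ((G f F).presheaf.stalk s) := by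
  obtain ⟨V, hV, hs, -⟩ :=
    exists_isAffineOpen_mem_and_subset (X := S) (x := s) (U := ⊤) trivial
  have key : ∀ x₀ ∈ maximalIdeal (S.presheaf.stalk s), IsSMulRegular (S.presheaf.stalk s) x₀ →
      IsSMulRegular ((G f F).presheaf.stalk s) x₀ := by
    intro x₀ _ hreg
    obtain ⟨a, ε, rfl⟩ := exists_assoc hV hs x₀
    refine isSMulRegular_iff_right_eq_zero_of_smul.mpr fun m hm => ?_
    rw [mul_smul, ε.isUnit.smul_eq_zero] at hm
    obtain ⟨z, hz⟩ := regMod f F hfl hV hs 0 a (fun r hr => by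
      rw [map_zero, zero_dvd_iff] at hr ⊢
      refine hreg ?_
      change _ * r = _ * (0 : S.presheaf.stalk s)
      rw [mul_assoc, hr, mul_zero, mul_zero]) (Or.inl rfl) m 0 (by rw [hm, smul_zero])
    rw [hz, map_zero, zero_smul]
  have aux : (2 : ℕ∞) ≤ LocCoh.depth (S.presheaf.stalk s) (S.presheaf.stalk s) →
      (2 : ℕ∞) ≤ LocCoh.depth (S.presheaf.stalk s) ((G f F).presheaf.stalk s) := by
    intro h
    obtain ⟨x₀, hx₀, y₀, hy₀, hreg, hmod⟩ := exists_pair h
    refine two_le_depth hx₀ hy₀ (key x₀ hx₀ hreg) fun m m' e => ?_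
    obtain ⟨a, ε, rfl⟩ := exists_assoc hV hs x₀
    obtain ⟨b, δ, rfl⟩ := exists_assoc hV hs y₀
    obtain ⟨z, hz⟩ := regMod f F hfl hV hs a b
      (fun r hr => by
        have h2 := hmod r (by
          rw [Units.isUnit ε |>.mul_left_dvd, mul_assoc, Units.isUnit δ |>.dvd_mul_left]
          exact hr)
        rwa [Units.isUnit ε |>.mul_left_dvd] at h2)
      (Or.inr fun r hr => hreg (show _ * r = _ * (0 : S.presheaf.stalk s) by
        rw [mul_assoc, hr, mul_zero, mul_zero]))
      m ((((δ⁻¹ : (S.presheaf.stalk s)ˣ) : S.presheaf.stalk s) * ε) • m') (by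
        rw [smul_smul]
        have := congrArg (((δ⁻¹ : (S.presheaf.stalk s)ˣ) : S.presheaf.stalk s) • ·) e
        simp only [smul_smul, Units.inv_mul_cancel_left] at this
        rw [this]
        congr 1
        ring)
    exact ⟨(((ε⁻¹ : (S.presheaf.stalk s)ˣ) : S.presheaf.stalk s)) • z, by
      rw [hz, smul_smul]
      congr 1
      rw [mul_right_comm, Units.mul_inv, one_mul]⟩
  rcases le_total (2 : ℕ∞) (LocCoh.depth (S.presheaf.stalk s) (S.presheaf.stalk s)) with h | h
  · rw [min_eq_left h]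
    exact aux h
  · rw [min_eq_right h]
    rcases eq_or_ne (LocCoh.depth (S.presheaf.stalk s) (S.presheaf.stalk s)) 0 with h0 | h0
    · rw [h0]; exact bot_le
    rcases h.eq_or_lt with h2 | h2
    · exact h2 ▸ aux h2.ge
    · have h1 : LocCoh.depth (S.presheaf.stalk s) (S.presheaf.stalk s) = 1 :=
        le_antisymm (ENat.lt_add_one_iff (by simp) |>.mp (by rwa [one_add_one_eq_two]))
          (Order.one_le_iff_ne_zero.mpr h0)
      rw [h1]
      obtain ⟨x₀, hx₀, hreg⟩ := exists_one h1.ge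
      exact one_le_depth hx₀ (key x₀ hx₀ hreg)

/-- A point of the base outside the image, seen from the sections. -/
theorem depth_of_notMem (s : S) (hns : s ∉ Set.range (fun x => f x))
    [IsNoetherianRing (S.presheaf.stalk s)]
    [Module.Finite (S.presheaf.stalk s) ((G f F).presheaf.stalk s)] :
    (2 : ℕ∞) ≤ LocCoh.depth (S.presheaf.stalk s) ((G f F).presheaf.stalk s) := by
  obtain ⟨V, hV, hs, -⟩ :=
    exists_isAffineOpen_mem_and_subset (X := S) (x := s) (U := ⊤) trivial
  obtain ⟨k, r, hr⟩ := Submodule.fg_iff_exists_fin_generating_family.mp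
    (IsNoetherian.noetherian (maximalIdeal (S.presheaf.stalk s)))
  choose a ε ha using fun i => exists_assoc hV hs (r i)
  set g := S.presheaf.germ V s hs with hgdef
  have ham : ∀ i, g (a i) ∈ maximalIdeal (S.presheaf.stalk s) := fun i => by
    have : r i ∈ maximalIdeal (S.presheaf.stalk s) := hr ▸ Submodule.subset_span ⟨i, rfl⟩
    rw [ha i] at this
    exact ((maximalIdeal _).unit_mul_mem_iff_mem (ε i).isUnit).mp this
  obtain ⟨ι, _, W, hWa, hW, hcov⟩ :=
    exists_finite_affine_cover (O := f ⁻¹ᵁ V) (f.isCompact_preimage hV.isCompact)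
  obtain ⟨t, ht, hP⟩ := exists_common hs
    (fun i t => ρ f (hW i) t ∈ Ideal.span (Set.range fun l => ρ f (hW i) (a l)))
    (fun i t t' h => by rw [map_mul]; exact Ideal.mul_mem_left _ _ h)
    fun i => exists_mem_ideal f hV hs (hWa i) (hW i) _ fun w hw hsp => by
      by_contra! hall
      have hwV : f w ∈ V := hW i hw
      have hl : ∀ l, ¬ IsUnit (S.presheaf.germ V (f w) hwV (a l)) := fun l hu => by
        refine hall _ (Ideal.subset_span ⟨l, rfl⟩) ((X.mem_basicOpen _ w hw).mpr ?_)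
        rw [germ_rho]
        exact hu.map _
      refine hns ⟨w, (hsp.antisymm ?_).eq⟩
      refine specializes_iff_forall_open.mpr fun U hU hwU => ?_
      obtain ⟨c, hcU, hwc⟩ := hV.exists_basicOpen_le (V := ⟨U, hU⟩) ⟨f w, hwU⟩ hwV
      refine hcU ?_
      by_contra hsc
      have hgc : g c ∈ maximalIdeal (S.presheaf.stalk s) := fun hu =>
        hsc ((S.mem_basicOpen c s hs).mpr hu)
      have hle : maximalIdeal (S.presheaf.stalk s) ≤
          (maximalIdeal (S.presheaf.stalk (f w))).comap (S.presheaf.stalkSpecializes hsp).hom := by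
        rw [← hr, Submodule.span_le]
        rintro _ ⟨l, rfl⟩
        rw [ha l]
        refine Ideal.mul_mem_left _ _ ?_
        rw [Ideal.mem_comap]
        erw [TopCat.Presheaf.germ_stalkSpecializes_apply]
        exact hl l
      have := hle hgc
      rw [Ideal.mem_comap] at this
      erw [TopCat.Presheaf.germ_stalkSpecializes_apply] at this
      exact this ((S.mem_basicOpen c (f w) hwV).mp hwc)
  choose b hb using fun i => (Ideal.mem_span_range_iff_exists_fun).mp (hP i)
  refine two_le_depth_of_no_socle ?_ ?_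
  · intro v hv
    obtain ⟨t₁, ht₁, n, hn⟩ := exists_rep f F hV hs v
    obtain ⟨t₂, ht₂, h₂⟩ := exists_common hs (fun l u => ρ f (le_refl (f ⁻¹ᵁ V)) (u * a l) • n = 0)
      (fun l u u' h => by rw [mul_assoc, map_mul, mul_smul, h, smul_zero])
      fun l => by
        obtain ⟨u, hu, e⟩ := (gM_eq_zero_iff f F hV hs (ρ f (le_refl (f ⁻¹ᵁ V)) (a l) • n)).mp (by
          rw [gM_smul, ← hn, smul_comm, hv _ (ham l), smul_zero])
        exact ⟨u, hu, by rw [map_mul, mul_smul]; exact e⟩
    have hN : ρ f (le_refl (f ⁻¹ᵁ V)) (t * t₂) • n = 0 := sec_ext F W hW hcov _ 0 fun i => by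
      rw [rs_smul, rs_zero, map_mul, mul_smul, ← hb i, Finset.sum_smul]
      refine Finset.sum_eq_zero fun l _ => ?_
      rw [mul_smul, smul_smul (ρ f _ (a l)), ← map_mul, mul_comm (a l), ← rs_smul f F (hW i) (le_refl (f ⁻¹ᵁ V)), h₂ l, rs_zero,
        smul_zero]
    have h1 := congrArg (gM f F hs) hN
    rw [gM_smul, ← hn, smul_smul, show gM f F hs 0 = 0 from map_zero _] at h1
    refine IsUnit.smul_eq_zero ?_ |>.mp h1
    rw [map_mul]
    exact ((isUnit_germ hs ht).mul (isUnit_germ hs ht₂)).mul (isUnit_germ hs ht₁)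
  · intro x₁ _ hreg v hv
    obtain ⟨x, δ, rfl⟩ := exists_assoc hV hs x₁
    choose c hc using fun l => hv _ (ham l)
    obtain ⟨t₁, ht₁, n, hn⟩ := exists_rep f F hV hs v
    choose u hu c' hc' using fun l => exists_rep f F hV hs ((δ : S.presheaf.stalk s) • c l)
    obtain ⟨U, hU, hUl⟩ : ∃ U, s ∈ S.basicOpen U ∧ ∀ l, ∃ d,
        ρ f (le_refl (f ⁻¹ᵁ V)) (U * a l) • n = ρ f (le_refl (f ⁻¹ᵁ V)) x • d := by
      refine exists_common hs (fun l U => ∃ d, ρ f (le_refl (f ⁻¹ᵁ V)) (U * a l) • n = ρ f (le_refl (f ⁻¹ᵁ V)) x • d)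
        (fun l U U' ⟨d, hd⟩ => ⟨ρ f (le_refl (f ⁻¹ᵁ V)) U' • d, by
          rw [mul_assoc, map_mul, mul_smul, hd, smul_comm]⟩) fun l => ?_
      obtain ⟨w, hw, e⟩ := (gM_eq_zero_iff f F hV hs
        (ρ f (le_refl (f ⁻¹ᵁ V)) (u l * a l) • n - ρ f (le_refl (f ⁻¹ᵁ V)) (x * t₁) • c' l)).mp (by
          rw [gM_sub, gM_smul, gM_smul, ← hn, ← hc' l, sub_eq_zero, map_mul, map_mul, smul_smul,
            smul_smul, smul_smul]
          have := congrArg ((g (u l) * g t₁) • ·) (hc l)
          simp only [smul_smul] at this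
          refine Eq.trans ?_ (this.trans ?_)
          · congr 1; ring
          · congr 1; ring)
      rw [smul_sub, sub_eq_zero, smul_smul, smul_smul, ← map_mul, ← map_mul] at e
      refine ⟨w * u l, by rw [S.basicOpen_mul]; exact ⟨hw, hu l⟩, ρ f (le_refl (f ⁻¹ᵁ V)) (w * t₁) • c' l, ?_⟩
      rw [mul_assoc, e, smul_smul, ← map_mul]
      congr 2
      ring
    choose d hd using hUl
    obtain ⟨w, hw, hwd⟩ := exists_common hs
      (fun (lm : Fin k × Fin k) u =>
        ρ f (le_refl (f ⁻¹ᵁ V)) u • (ρ f (le_refl (f ⁻¹ᵁ V)) (a lm.1) • d lm.2 - ρ f (le_refl (f ⁻¹ᵁ V)) (a lm.2) • d lm.1) = 0)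
      (fun lm u u' h => by rw [map_mul, mul_smul, h, smul_zero]) fun lm => by
        refine (gM_eq_zero_iff f F hV hs _).mp
          (isSMulRegular_iff_right_eq_zero_of_smul.mp hreg _ ?_)
        rw [mul_smul, ← gM_smul f F hs x, smul_sub, smul_comm (ρ f (le_refl (f ⁻¹ᵁ V)) x),
          smul_comm (ρ f (le_refl (f ⁻¹ᵁ V)) x) (ρ f (le_refl (f ⁻¹ᵁ V)) (a lm.2)), ← hd, ← hd, smul_smul, smul_smul,
          ← map_mul, ← map_mul, mul_left_comm (a lm.1), mul_comm (a lm.1) (a lm.2),
          mul_left_comm (a lm.2), sub_self, show gM f F hs 0 = 0 from map_zero _, smul_zero]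
    obtain ⟨z, hz⟩ := exists_glue F W hW hcov
      (fun i => ρ f (hW i) (t * w) • ∑ l, b i l • rs F (hW i) (d l)) fun i j => by
      set O := W i ⊓ W j
      have hOi : O ≤ W i := inf_le_left
      have hOj : O ≤ W j := inf_le_right
      have hO : O ≤ f ⁻¹ᵁ V := hOi.trans (hW i)
      let β : Fin k → Γ(X, O) := fun l => X.presheaf.map (homOfLE hOi).op (b i l)
      let γ : Fin k → Γ(X, O) := fun l => X.presheaf.map (homOfLE hOj).op (b j l)
      have hsum : ∀ (i : ι) (h : O ≤ W i),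
          rs F h (ρ f (hW i) (t * w) • ∑ l, b i l • rs F (hW i) (d l)) =
          ρ f (h.trans (hW i)) (t * w) • ∑ l, X.presheaf.map (homOfLE h).op (b i l) •
            rs F (h.trans (hW i)) (d l) := fun i h => by
        rw [rs_smul]
        congr 1
        rw [rs_sum]
        exact Finset.sum_congr rfl fun l _ => by rw [smul_rs, rs_rs]
      rw [hsum i hOi, hsum j hOj]
      have hbO : ∀ (i : ι) (h : O ≤ W i), ρ f (h.trans (hW i)) t =
          ∑ l, X.presheaf.map (homOfLE h).op (b i l) * ρ f (h.trans (hW i)) (a l) := fun i h => by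
        have hr : ∀ c, X.presheaf.map (homOfLE h).op (ρ f (hW i) c) = ρ f (h.trans (hW i)) c :=
          fun c => by
            show (f.appLE V (W i) (hW i) ≫ X.presheaf.map (homOfLE h).op) c = _
            rw [Scheme.Hom.appLE_map]
        rw [← hr t, ← hb i, map_sum]
        exact Finset.sum_congr rfl fun l _ => by rw [map_mul, hr]
      have hsym : ∀ l l', ρ f hO w • ρ f hO (a l) • rs F hO (d l') =
          ρ f hO w • ρ f hO (a l') • rs F hO (d l) := fun l l' => by
        have e := congrArg (rs F hO) (hwd (l, l'))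
        rw [rs_smul, rs_sub, rs_zero, rs_smul, rs_smul, smul_sub, sub_eq_zero] at e
        exact e
      simp only [map_mul, mul_smul]
      calc ρ f hO t • ρ f hO w • ∑ l, β l • rs F hO (d l)
          = ∑ m, ∑ l, (γ m * β l) • ρ f hO w • ρ f hO (a m) • rs F hO (d l) := by
            rw [show ρ f hO t = _ from hbO j hOj, Finset.sum_smul]
            refine Finset.sum_congr rfl fun m _ => ?_
            rw [Finset.smul_sum, Finset.smul_sum]
            refine Finset.sum_congr rfl fun l _ => ?_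
            simp only [smul_smul]
            congr 1
            ring
        _ = ∑ l, ∑ m, (β l * γ m) • ρ f hO w • ρ f hO (a l) • rs F hO (d m) := by
            rw [Finset.sum_comm]
            refine Finset.sum_congr rfl fun l _ => Finset.sum_congr rfl fun m _ => ?_
            rw [mul_comm (γ m), hsym m l]
        _ = ρ f hO t • ρ f hO w • ∑ m, γ m • rs F hO (d m) := by
            rw [show ρ f hO t = _ from hbO i hOi, Finset.sum_smul]
            refine Finset.sum_congr rfl fun l _ => ?_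
            rw [Finset.smul_sum, Finset.smul_sum]
            refine Finset.sum_congr rfl fun m _ => ?_
            simp only [smul_smul]
            congr 1
            ring
    have hN : ρ f (le_refl (f ⁻¹ᵁ V)) x • z = ρ f (le_refl (f ⁻¹ᵁ V)) (t * w * (U * t)) • n :=
      sec_ext F W hW hcov _ _ fun i => by
        rw [rs_smul, rs_smul, hz i, smul_comm, Finset.smul_sum]
        rw [map_mul _ (t * w), mul_smul, map_mul _ U, mul_comm (ρ f _ U), ← hb i, Finset.sum_mul,
          Finset.sum_smul]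
        congr 1
        refine Finset.sum_congr rfl fun l _ => ?_
        rw [smul_comm, ← rs_smul f F (hW i) (le_refl (f ⁻¹ᵁ V)), ← hd l, rs_smul, map_mul, smul_smul]
        congr 1
        ring
    have h1 := congrArg (gM f F hs) hN
    rw [gM_smul, gM_smul, ← hn, smul_smul] at h1
    have hu2 : IsUnit (g (t * w * (U * t)) * g t₁) := by
      simp only [map_mul]
      exact (((isUnit_germ hs ht).mul (isUnit_germ hs hw)).mul
        ((isUnit_germ hs hU).mul (isUnit_germ hs ht))).mul (isUnit_germ hs ht₁)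
    refine ⟨((↑hu2.unit⁻¹ : S.presheaf.stalk s) * (↑δ⁻¹ : S.presheaf.stalk s)) • gM f F hs z, ?_⟩
    rw [smul_smul, show ((δ : S.presheaf.stalk s) * g x) * (↑hu2.unit⁻¹ * ↑δ⁻¹) =
      ((δ : S.presheaf.stalk s) * ↑δ⁻¹) * (↑hu2.unit⁻¹ * g x) by ring, Units.mul_inv, one_mul,
      mul_smul, h1, smul_smul, hu2.val_inv_mul, one_smul]

end Groth.Agent.Lib.PushDepth
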